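import Mathlib
import Cfsg.Agent.GeoPrime.Three.DataFive

/-!
Tables for three by three orthogonal matrices over fields with three and five elements.
-/

set_option autoImplicit false

namespace CfsgLib.GeoPrime.Three.DataOrth

/-- Frames for diagonal forms over three elements. -/
def tabThree : List (List (ZMod 3)) := [
    [0, 0, 1, 0, 1, 0, 1, 0, 0, 1],
    [0, 1, 1, 0, 1, 2, 1, 0, 0, 2],
    [0, 1, 1, 1, 0, 0, 0, 1, 2, 2],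
    [0, 0, 1, 1, 1, 0, 1, 2, 0, 1],
    [0, 0, 1, 1, 1, 0, 1, 2, 0, 2],
    [0, 1, 1, 1, 0, 0, 0, 1, 2, 1],
    [0, 1, 1, 0, 1, 2, 1, 0, 0, 1],
    [0, 0, 1, 0, 1, 0, 1, 0, 0, 2]]

/-- Frames for diagonal forms over five elements. -/
def tabFive : List (List (ZMod 5)) := [
    [0, 0, 1, 0, 1, 0, 1, 0, 0, 1],
    [0, 1, 1, 0, 1, 4, 1, 0, 0, 2],
    [0, 1, 1, 0, 1, 4, 2, 0, 0, 2],
    [0, 0, 1, 0, 1, 0, 2, 0, 0, 1],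
    [0, 1, 1, 1, 0, 0, 0, 1, 4, 2],
    [0, 0, 1, 2, 2, 0, 2, 3, 0, 1],
    [0, 0, 1, 2, 2, 0, 1, 4, 0, 1],
    [0, 1, 1, 1, 0, 0, 0, 2, 3, 2],
    [0, 1, 1, 1, 2, 3, 2, 2, 3, 2],
    [0, 0, 1, 1, 1, 0, 2, 3, 0, 1],
    [0, 0, 1, 1, 1, 0, 1, 4, 0, 1],
    [0, 1, 1, 1, 2, 3, 1, 1, 4, 2],
    [0, 0, 1, 0, 2, 0, 1, 0, 0, 1],
    [0, 1, 1, 0, 2, 3, 1, 0, 0, 2],
    [0, 1, 1, 0, 2, 3, 2, 0, 0, 2],
    [0, 0, 1, 0, 2, 0, 2, 0, 0, 1],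
    [0, 0, 1, 1, 1, 0, 1, 4, 0, 2],
    [0, 2, 2, 1, 0, 0, 0, 2, 3, 1],
    [0, 2, 2, 1, 0, 0, 0, 1, 4, 1],
    [0, 0, 1, 1, 1, 0, 2, 3, 0, 2],
    [0, 2, 2, 0, 2, 3, 1, 0, 0, 1],
    [0, 0, 1, 0, 1, 0, 1, 0, 0, 2],
    [0, 0, 1, 0, 1, 0, 2, 0, 0, 2],
    [0, 2, 2, 0, 2, 3, 2, 0, 0, 1],
    [0, 2, 2, 0, 1, 4, 1, 0, 0, 1],
    [0, 0, 1, 0, 2, 0, 1, 0, 0, 2],
    [0, 0, 1, 0, 2, 0, 2, 0, 0, 2],
    [0, 2, 2, 0, 1, 4, 2, 0, 0, 1],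
    [0, 0, 1, 2, 2, 0, 1, 4, 0, 2],
    [0, 2, 2, 1, 2, 3, 1, 1, 4, 1],
    [0, 2, 2, 1, 2, 3, 2, 2, 3, 1],
    [0, 0, 1, 2, 2, 0, 2, 3, 0, 2],
    [0, 0, 2, 1, 1, 0, 1, 4, 0, 2],
    [0, 1, 1, 1, 0, 0, 0, 2, 3, 1],
    [0, 1, 1, 1, 0, 0, 0, 1, 4, 1],
    [0, 0, 2, 1, 1, 0, 2, 3, 0, 2],
    [0, 1, 1, 0, 2, 3, 1, 0, 0, 1],
    [0, 0, 2, 0, 1, 0, 1, 0, 0, 2],
    [0, 0, 2, 0, 1, 0, 2, 0, 0, 2],
    [0, 1, 1, 0, 2, 3, 2, 0, 0, 1],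
    [0, 1, 1, 0, 1, 4, 1, 0, 0, 1],
    [0, 0, 2, 0, 2, 0, 1, 0, 0, 2],
    [0, 0, 2, 0, 2, 0, 2, 0, 0, 2],
    [0, 1, 1, 0, 1, 4, 2, 0, 0, 1],
    [0, 0, 2, 2, 2, 0, 1, 4, 0, 2],
    [0, 1, 1, 1, 2, 3, 1, 1, 4, 1],
    [0, 1, 1, 1, 2, 3, 2, 2, 3, 1],
    [0, 0, 2, 2, 2, 0, 2, 3, 0, 2],
    [0, 0, 2, 0, 1, 0, 1, 0, 0, 1],
    [0, 2, 2, 0, 1, 4, 1, 0, 0, 2],
    [0, 2, 2, 0, 1, 4, 2, 0, 0, 2],
    [0, 0, 2, 0, 1, 0, 2, 0, 0, 1],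
    [0, 2, 2, 1, 0, 0, 0, 1, 4, 2],
    [0, 0, 2, 2, 2, 0, 2, 3, 0, 1],
    [0, 0, 2, 2, 2, 0, 1, 4, 0, 1],
    [0, 2, 2, 1, 0, 0, 0, 2, 3, 2],
    [0, 2, 2, 1, 2, 3, 2, 2, 3, 2],
    [0, 0, 2, 1, 1, 0, 2, 3, 0, 1],
    [0, 0, 2, 1, 1, 0, 1, 4, 0, 1],
    [0, 2, 2, 1, 2, 3, 1, 1, 4, 2],
    [0, 0, 2, 0, 2, 0, 1, 0, 0, 1],
    [0, 2, 2, 0, 2, 3, 1, 0, 0, 2],
    [0, 2, 2, 0, 2, 3, 2, 0, 0, 2],
    [0, 0, 2, 0, 2, 0, 2, 0, 0, 1]]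

/-- Rotations with all possible first columns. -/
def repList : List (List (ZMod 5)) := [
    [0, 0, 4, 0, 1, 0, 1, 0, 0],
    [0, 0, 1, 0, 1, 0, 4, 0, 0],
    [0, 0, 1, 1, 0, 0, 0, 1, 0],
    [0, 0, 4, 4, 0, 0, 0, 1, 0],
    [1, 0, 0, 0, 0, 4, 0, 1, 0],
    [1, 1, 2, 1, 2, 1, 2, 1, 1],
    [1, 1, 3, 1, 2, 4, 3, 4, 1],
    [1, 1, 3, 2, 1, 4, 1, 2, 4],
    [1, 1, 2, 2, 1, 1, 4, 3, 4],
    [1, 1, 2, 3, 4, 4, 1, 2, 1],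
    [1, 1, 3, 3, 4, 1, 4, 3, 1],
    [1, 1, 3, 4, 3, 1, 2, 1, 4],
    [1, 1, 2, 4, 3, 4, 3, 4, 4],
    [2, 1, 1, 1, 1, 2, 1, 2, 1],
    [2, 1, 4, 1, 1, 3, 4, 3, 1],
    [2, 1, 1, 4, 3, 4, 1, 1, 2],
    [2, 1, 4, 4, 3, 1, 4, 4, 2],
    [3, 1, 1, 1, 3, 4, 1, 4, 3],
    [3, 1, 4, 1, 3, 1, 4, 1, 3],
    [3, 1, 1, 4, 1, 2, 1, 3, 4],
    [3, 1, 4, 4, 1, 3, 4, 2, 4],
    [4, 0, 0, 0, 0, 1, 0, 1, 0],
    [4, 1, 3, 1, 3, 1, 2, 4, 1],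
    [4, 1, 2, 1, 3, 4, 3, 1, 1],
    [4, 1, 2, 2, 4, 4, 1, 3, 4],
    [4, 1, 3, 2, 4, 1, 4, 2, 4],
    [4, 1, 3, 3, 1, 4, 1, 3, 1],
    [4, 1, 2, 3, 1, 1, 4, 2, 1],
    [4, 1, 2, 4, 2, 1, 2, 4, 4],
    [4, 1, 3, 4, 2, 4, 3, 1, 4]]

/-- Rotations fixing the first axis. -/
def stabList : List (List (ZMod 5)) := [
    [1, 0, 0, 0, 0, 4, 0, 1, 0],
    [1, 0, 0, 0, 0, 1, 0, 4, 0],
    [1, 0, 0, 0, 1, 0, 0, 0, 1],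
    [1, 0, 0, 0, 4, 0, 0, 0, 4]]

/-- The matrix of a list. -/
def ofL {p : ℕ} (L : List (ZMod p)) : Matrix (Fin 3) (Fin 3) (ZMod p) :=
  Matrix.of fun i j => L.getD (3 * i.val + j.val) 0

/-- The frame for a diagonal form. -/
def frameThree (a b c : ZMod 3) : List (ZMod 3) :=
  tabThree.getD (4 * (a.val - 1) + 2 * (b.val - 1) + (c.val - 1)) []

/-- The frame for a diagonal form. -/
def frameFive (a b c : ZMod 5) : List (ZMod 5) :=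
  tabFive.getD (16 * (a.val - 1) + 4 * (b.val - 1) + (c.val - 1)) []

/-- A rotation with given first column. -/
def rep (k : Fin 30) : Matrix (Fin 3) (Fin 3) (ZMod 5) := ofL (repList.getD k.val [])

/-- A rotation fixing the first axis. -/
def stab (k : Fin 4) : Matrix (Fin 3) (Fin 3) (ZMod 5) := ofL (stabList.getD k.val [])

theorem frameThree_ok : ∀ a b c : ZMod 3, a ≠ 0 → b ≠ 0 → c ≠ 0 → (frameThree a b c).getD 9 0 ≠ 0 ∧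
    ∀ i j, (a * ofL (frameThree a b c) 0 i * ofL (frameThree a b c) 0 j +
      b * ofL (frameThree a b c) 1 i * ofL (frameThree a b c) 1 j +
      c * ofL (frameThree a b c) 2 i * ofL (frameThree a b c) 2 j) =
      if i = j then (frameThree a b c).getD 9 0 else 0 := by decide +kernel

theorem frameFive_ok : ∀ a b c : ZMod 5, a ≠ 0 → b ≠ 0 → c ≠ 0 → (frameFive a b c).getD 9 0 ≠ 0 ∧
    ∀ i j, (a * ofL (frameFive a b c) 0 i * ofL (frameFive a b c) 0 j +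
      b * ofL (frameFive a b c) 1 i * ofL (frameFive a b c) 1 j +
      c * ofL (frameFive a b c) 2 i * ofL (frameFive a b c) 2 j) =
      if i = j then (frameFive a b c).getD 9 0 else 0 := by decide +kernel

theorem norm_one_three : ∀ a b c : ZMod 3, a * a + b * b + c * c = 1 →
    (b = 0 ∧ c = 0) ∨ (a = 0 ∧ c = 0) ∨ (a = 0 ∧ b = 0) := by decide +kernel

theorem rep_col : ∀ a b c : ZMod 5, a * a + b * b + c * c = 1 →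
    ∃ k : Fin 30, rep k 0 0 = a ∧ rep k 1 0 = b ∧ rep k 2 0 = c := by decide +kernel

theorem rep_orth : ∀ k : Fin 30, ∀ i j, rep k 0 i * rep k 0 j + rep k 1 i * rep k 1 j + rep k 2 i * rep k 2 j =
    if i = j then 1 else 0 := by decide +kernel

theorem rep_det : ∀ k : Fin 30,
    rep k 0 0 * rep k 1 1 * rep k 2 2 - rep k 0 0 * rep k 1 2 * rep k 2 1 - rep k 0 1 * rep k 1 0 * rep k 2 2 +
      rep k 0 1 * rep k 1 2 * rep k 2 0 + rep k 0 2 * rep k 1 0 * rep k 2 1 -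
      rep k 0 2 * rep k 1 1 * rep k 2 0 = 1 := by decide +kernel

set_option synthInstance.maxSize 1000 in
theorem stab_block : ∀ b c e f : ZMod 5, b * b + c * c = 1 → e * e + f * f = 1 → b * e + c * f = 0 →
    b * f - c * e = 1 → ∃ k : Fin 4, stab k 1 1 = b ∧ stab k 2 1 = c ∧ stab k 1 2 = e ∧ stab k 2 2 = f := by
  decide +kernel

theorem stab_first : ∀ k : Fin 4, stab k 0 0 = 1 ∧ stab k 0 1 = 0 ∧ stab k 0 2 = 0 ∧ stab k 1 0 = 0 ∧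
    stab k 2 0 = 0 := by decide +kernel

theorem rep_keeps : ∀ k : Fin 30,
    keeps 2 DataFive.orbA DataFive.mskA (fun i j => (rep k i j, (0 : ZMod 5))) = true := by decide +kernel

theorem stab_keeps : ∀ k : Fin 4,
    keeps 2 DataFive.orbA DataFive.mskA (fun i j => (stab k i j, (0 : ZMod 5))) = true := by decide +kernel

end CfsgLib.GeoPrime.Three.DataOrth
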